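import Cfsg.Agent.H540.E8C.Sz.Iface
import Cfsg.Agent.S0333
import Cfsg.Agent.S2238
import Cfsg.Agent.S0330
import Cfsg.Agent.OddCyclic.ClaimC.SzIso

/-!
# Counting in `Sz(8)` (helper887, S5919, task SZ1)
-/

set_option autoImplicit false

namespace Cfsg.Agent.H887.Sz

open Subgroup
open scoped Pointwise
open Cfsg.Agent.H540.E8C.Sz

universe u

section gen

variable {G : Type*} [Group G] [Finite G] {p : ℕ} [Fact p.Prime]

/-- counting with Sylow subgroups intersecting trivially -/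
theorem card_pow {e N : ℕ} (hN : ∀ P : Sylow p G, Nat.card P = N)
    (hin : ∀ g : G, g ^ e = 1 → g ≠ 1 → ∃! P : Sylow p G, g ∈ P)
    (hex : ∀ (P : Sylow p G), ∀ g ∈ P, g ^ e = 1) :
    Nat.card {g : G // g ^ e = 1} = 1 + Nat.card (Sylow p G) * (N - 1) := by
  classical
  have := Fintype.ofFinite G
  have := Fintype.ofFinite (Sylow p G)
  have h1 : Nat.card {g : G // g ^ e = 1} = Nat.card {g : G // g ^ e = 1 ∧ g ≠ 1} + 1 := by
    have e1 : Option {g : G // g ^ e = 1 ∧ g ≠ 1} ≃ {g : G // g ^ e = 1} :=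
      Equiv.ofBijective (fun o => o.elim ⟨1, one_pow e⟩ fun x => ⟨x.1, x.2.1⟩) ⟨by
        rintro (_ | x) (_ | y) h
        · rfl
        · exact absurd (congrArg Subtype.val h).symm y.2.2
        · exact absurd (congrArg Subtype.val h) x.2.2
        · have h' : x.1 = y.1 := congrArg (fun z : {g : G // g ^ e = 1} => z.1) h
          exact congrArg some (Subtype.ext h'), by
        rintro ⟨g, hg⟩
        by_cases h : g = 1
        · exact ⟨none, Subtype.ext h.symm⟩
        · exact ⟨some ⟨g, hg, h⟩, rfl⟩⟩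
    rw [← Nat.card_congr e1, Finite.card_option]
  have e2 : (Σ P : Sylow p G, {x : P // x ≠ 1}) ≃ {g : G // g ^ e = 1 ∧ g ≠ 1} :=
    Equiv.ofBijective (fun s => ⟨s.2.1.1, hex s.1 _ s.2.1.2, fun h => s.2.2 (Subtype.ext h)⟩) ⟨by
      rintro ⟨P, x, hx⟩ ⟨P', x', hx'⟩ h
      have h0 : x.1 = x'.1 := congrArg Subtype.val h
      have h2 : P = P' := (hin x.1 (hex P _ x.2) fun h => hx (Subtype.ext h)).unique x.2 (by rw [h0]; exact x'.2)
      subst h2
      have h3 : x = x' := Subtype.ext h0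
      subst h3
      rfl, by
      rintro ⟨g, hg, h1⟩
      obtain ⟨P, hP, -⟩ := hin g hg h1
      exact ⟨⟨P, ⟨g, hP⟩, fun h => h1 (congrArg Subtype.val h)⟩, rfl⟩⟩
  have h3 : ∀ P : Sylow p G, Nat.card {x : P // x ≠ 1} = N - 1 := by
    intro P
    have := Fintype.ofFinite P
    rw [Nat.card_eq_fintype_card, Fintype.card_subtype_compl, Fintype.card_subtype_eq, ← Nat.card_eq_fintype_card]
    exact congrArg (· - 1) (hN P)
  rw [h1, ← Nat.card_congr e2, Nat.card_sigma, Finset.sum_congr rfl fun P _ => h3 P, Finset.sum_const,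
    Finset.card_univ, ← Nat.card_eq_fintype_card, smul_eq_mul, add_comm]

theorem card_sylow {n : ℕ} (hn : Nat.card G = n) (h1 : p ∣ n) (h2 : ¬ p ^ 2 ∣ n) (P : Sylow p G) : Nat.card P = p := by
  obtain ⟨k, hk⟩ := IsPGroup.iff_card.1 P.isPGroup'
  have h3 : p ∣ Nat.card P := P.dvd_card_of_dvd_card (by rw [hn]; exact h1)
  have h4 : Nat.card P ∣ n := by rw [← hn]; exact Subgroup.card_subgroup_dvd_card _
  have hp : p.Prime := Fact.out
  have h5 : k = 1 := by
    rcases Nat.lt_or_ge k 2 with h | h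
    · interval_cases k
      · rw [pow_zero] at hk
        rw [hk] at h3
        exact absurd (Nat.dvd_one.1 h3) hp.one_lt.ne'
      · rfl
    · exfalso
      exact h2 (((pow_dvd_pow p h).trans (by rw [hk])).trans h4)
  rw [hk, h5, pow_one]

/-- the elements of order `p` when the Sylow subgroups have order `p` -/
theorem card_prime {n k : ℕ} (hn : Nat.card G = n) (h1 : p ∣ n) (h2 : ¬ p ^ 2 ∣ n) {U : Subgroup G}
    (hU : Nat.card U = p) (hk : Nat.card (normalizer (U : Set G)) = k) :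
    Nat.card {g : G // g ^ p = 1} = 1 + (n / k) * (p - 1) := by
  have hp : p.Prime := Fact.out
  have hN := card_sylow (p := p) hn h1 h2
  rw [card_pow hN ?_ ?_]
  · obtain ⟨P, hP⟩ := (IsPGroup.of_card (n := 1) (by rw [hU, pow_one]) : IsPGroup p U).exists_le_sylow
    have hPU : (P : Subgroup G) = U := by
      symm
      apply Subgroup.eq_of_le_of_card_ge hP
      rw [hU]
      exact (hN P).le
    have h4 : Nat.card (Sylow p G) = n / k := by
      rw [P.card_eq_index_normalizer]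
      have h5 := Subgroup.card_mul_index (normalizer ((P : Subgroup G) : Set G))
      rw [hn] at h5
      have h6 : Nat.card (normalizer ((P : Subgroup G) : Set G)) = k := by rw [hPU, hk]
      rw [h6] at h5
      have h7 : 0 < k := by rw [← h6]; exact Nat.card_pos
      exact (Nat.div_eq_of_eq_mul_right h7 h5.symm).symm
    rw [h4]
  · intro g hg hg1
    have ho : orderOf g = p := orderOf_eq_prime hg hg1
    obtain ⟨P, hP⟩ := (IsPGroup.of_card (n := 1) (by rw [Nat.card_zpowers, ho, pow_one]) :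
      IsPGroup p (zpowers g)).exists_le_sylow
    have key : ∀ P : Sylow p G, g ∈ P → (P : Subgroup G) = zpowers g := by
      intro P hP
      symm
      apply Subgroup.eq_of_le_of_card_ge ((Subgroup.zpowers_le).2 hP)
      rw [Nat.card_zpowers, ho]
      exact (hN P).le
    refine ⟨P, hP (mem_zpowers g), fun P' hP' => Sylow.ext ?_⟩
    rw [key P' hP', key P (hP (mem_zpowers g))]
  · intro P g hg
    have h3 : (⟨g, hg⟩ : (P : Subgroup G)) ^ Nat.card (P : Subgroup G) = 1 := pow_card_eq_one'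
    rw [hN P] at h3
    exact congrArg Subtype.val h3

end gen

/-- transport -/
theorem Num_congr {G Q : Type*} [Group G] [Group Q] (e : G ≃* Q) (h : Num G) : Num Q where
  card := by rw [← Nat.card_congr e.toEquiv, h.card]
  spec g := by
    have key : ∀ n, e.symm g ^ n = 1 → g ^ n = 1 := fun n hn => by
      have := congrArg e hn
      rwa [map_pow, e.apply_symm_apply, map_one] at this
    rcases h.spec (e.symm g) with h1 | h1 | h1 | h1
    · exact Or.inl (key _ h1)
    · exact Or.inr (Or.inl (key _ h1))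
    · exact Or.inr (Or.inr (Or.inl (key _ h1)))
    · exact Or.inr (Or.inr (Or.inr (key _ h1)))
  n2 := by
    rw [← h.n2]
    exact (Nat.card_congr (e.toEquiv.subtypeEquiv fun g => by
      rw [MulEquiv.toEquiv_eq_coe, MulEquiv.coe_toEquiv, ← map_pow, map_eq_one_iff e e.injective])).symm
  n5 := by
    rw [← h.n5]
    exact (Nat.card_congr (e.toEquiv.subtypeEquiv fun g => by
      rw [MulEquiv.toEquiv_eq_coe, MulEquiv.coe_toEquiv, ← map_pow, map_eq_one_iff e e.injective])).symm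
  n13 := by
    rw [← h.n13]
    exact (Nat.card_congr (e.toEquiv.subtypeEquiv fun g => by
      rw [MulEquiv.toEquiv_eq_coe, MulEquiv.coe_toEquiv, ← map_pow, map_eq_one_iff e e.injective])).symm
  ex4 := by
    obtain ⟨g, h1, h2⟩ := h.ex4
    exact ⟨e g, by rw [← map_pow, h1, map_one], fun h3 => h2 (by
      rwa [← map_pow, map_eq_one_iff e e.injective] at h3)⟩
  conj5 y hy := by
    obtain ⟨x, rfl⟩ := e.surjective y
    obtain ⟨k, hk⟩ := h.conj5 x (by rwa [← map_pow, map_eq_one_iff e e.injective] at hy)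
    exact ⟨e k, by rw [← map_pow, ← hk, map_mul, map_mul, map_inv]⟩
  cent y hy h1 := by
    obtain ⟨x, rfl⟩ := e.surjective y
    have h2 := h.cent x (by rwa [← map_pow, map_eq_one_iff e e.injective] at hy) (fun h3 => h1 (by rw [h3, map_one]))
    rw [← h2]
    symm
    refine Nat.card_congr (e.toEquiv.subtypeEquiv fun g => ?_)
    show g ∈ _ ↔ e g ∈ _
    rw [mem_centralizer_singleton_iff, mem_centralizer_singleton_iff, ← map_mul, ← map_mul, e.injective.eq_iff]

section sz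

variable {F : Type u} [Field F] [Fintype F] (hF : Fintype.card F = 8)

include hF

theorem hF3 : Fintype.card F = 2 ^ (2 * 1 + 1) := by rw [hF]; norm_num

theorem card_sz : Nat.card (Cfsg.Sz F 1) = 29120 := by
  rw [Cfsg.Agent.S0324.result le_rfl (hF3 hF)]
  norm_num

theorem card_syl : Nat.card (Sylow 2 (Cfsg.Sz F 1)) = 65 := by
  have hF3 := hF3 hF
  obtain ⟨e⟩ := Cfsg.Agent.OddCyclic.ClaimC.SzIso.iso (F := F) (m := 1) le_rfl hF3
  obtain ⟨-, S, -, hS, -⟩ := Cfsg.Agent.S1163.result (F := F) (m := 1) le_rfl hF3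
  have hsurj : Function.Surjective (e : Cfsg.Sz F 1 →* ↥(Cfsg.Lie.Sz F (2 ^ (1 + 1)))) := e.surjective
  have hle : (S : Subgroup ↥(Cfsg.Lie.Sz F (2 ^ (1 + 1)))) ≤ (e : Cfsg.Sz F 1 →* ↥(Cfsg.Lie.Sz F (2 ^ (1 + 1)))).range := by
    rw [MonoidHom.range_eq_top.2 hsurj]
    exact le_top
  let P : Sylow 2 (Cfsg.Sz F 1) := S.comapOfInjective _ e.injective hle
  have hP : (P : Subgroup (Cfsg.Sz F 1)) = (S : Subgroup _).comap (e : Cfsg.Sz F 1 →* ↥(Cfsg.Lie.Sz F (2 ^ (1 + 1)))) :=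
    rfl
  have h1 := P.card_eq_index_normalizer
  have h2 : (normalizer ((S : Subgroup ↥(Cfsg.Lie.Sz F (2 ^ (1 + 1)))) : Set ↥(Cfsg.Lie.Sz F (2 ^ (1 + 1))))).comap
      (e : Cfsg.Sz F 1 →* ↥(Cfsg.Lie.Sz F (2 ^ (1 + 1)))) = normalizer ((P : Subgroup (Cfsg.Sz F 1)) : Set (Cfsg.Sz F 1)) := by
    rw [hP]
    exact Subgroup.comap_normalizer_eq_of_surjective _ hsurj
  rw [h1]
  have h3 := Subgroup.index_comap_of_surjective
    (normalizer ((S : Subgroup ↥(Cfsg.Lie.Sz F (2 ^ (1 + 1)))) : Set ↥(Cfsg.Lie.Sz F (2 ^ (1 + 1))))) hsurj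
  rw [h2, hS] at h3
  exact h3

omit hF in
/-- the normaliser of a cyclic group of order 13 -/
theorem conj_core {G : Type*} [Group G] [Finite G] {U : Subgroup G} (hU : Nat.card U = 13)
    (hC : ∀ u ∈ U, u ≠ 1 → Subgroup.centralizer {u} = U)
    (hN : Nat.card (normalizer (U : Set G)) = 4 * 13) {u : G} (hu : u ∈ U) (h1 : u ≠ 1) :
    ∃ h : G, h * u * h⁻¹ = u ^ 5 := by
  by_contra hcon
  push Not at hcon
  have f13 : Fact (Nat.Prime 13) := ⟨by norm_num⟩
  have hu13 : u ^ 13 = 1 := by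
    have h3 : (⟨u, hu⟩ : U) ^ Nat.card U = 1 := pow_card_eq_one'
    rw [hU] at h3
    exact congrArg Subtype.val h3
  have ho : orderOf u = 13 := orderOf_eq_prime hu13 h1
  have hz : zpowers u = U := by
    apply Subgroup.eq_of_le_of_card_ge ((zpowers_le).2 hu)
    rw [Nat.card_zpowers, ho, hU]
  have hinj : ∀ a b : Fin 13, u ^ (a : ℕ) = u ^ (b : ℕ) → a = b := by
    intro a b hab
    have := pow_injOn_Iio_orderOf (x := u) (by rw [ho]; exact a.2) (by rw [ho]; exact b.2) hab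
    exact Fin.ext this
  set N := normalizer (U : Set G) with hNdef
  have hUN : U ≤ N := le_normalizer
  -- the exponent
  have hex : ∀ h : N, ∃ j : Fin 13, (h : G) * u * (h : G)⁻¹ = u ^ (j : ℕ) := by
    intro h
    have h2 : (h : G) * u * (h : G)⁻¹ ∈ U := (mem_normalizer_iff.1 h.2 u).1 hu
    rw [← hz, mem_zpowers_iff] at h2
    obtain ⟨k, hk⟩ := h2
    have h13 : (0 : ℤ) < 13 := by norm_num
    refine ⟨⟨(k % 13).toNat, by
      have := Int.emod_lt_of_pos k h13
      have := Int.emod_nonneg k h13.ne'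
      omega⟩, ?_⟩
    rw [← hk, ← zpow_natCast]
    have h3 : (((k % 13).toNat : ℕ) : ℤ) = k % 13 := Int.toNat_of_nonneg (Int.emod_nonneg k h13.ne')
    show u ^ k = u ^ (((k % 13).toNat : ℕ) : ℤ)
    rw [h3, zpow_eq_zpow_iff_modEq, ho]
    exact (Int.mod_modEq k 13).symm
  choose j hj using hex
  have : (U.subgroupOf N).Normal := by
    rw [hNdef]
    exact Subgroup.normal_in_normalizer
  have hidx : (U.subgroupOf N).index = 4 := by
    have h2 := Subgroup.card_mul_index (U.subgroupOf N)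
    have h3 : Nat.card (U.subgroupOf N) = 13 := by
      rw [← hU]
      exact Nat.card_congr (Subgroup.subgroupOfEquivOfLe hUN).toEquiv
    rw [h3, hN] at h2
    omega
  have hpow : ∀ (h : N) (n : ℕ), (h : G) ^ n * u * ((h : G) ^ n)⁻¹ = u ^ ((j h : ℕ) ^ n) := by
    intro h n
    induction n with
    | zero => simp
    | succ n ih =>
      have e1 : (h : G) ^ (n + 1) * u * ((h : G) ^ (n + 1))⁻¹ = (h : G) ^ n * ((h : G) * u * (h : G)⁻¹) * ((h : G) ^ n)⁻¹ := by
        rw [pow_succ]; group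
      have e2 : (h : G) ^ n * u ^ (j h : ℕ) * ((h : G) ^ n)⁻¹ = ((h : G) ^ n * u * ((h : G) ^ n)⁻¹) ^ (j h : ℕ) := by
        rw [conj_pow]
      rw [e1, hj, e2, ih, ← pow_mul, ← pow_succ]
  have hj4 : ∀ h : N, ((j h : ℕ) ^ 4) % 13 = 1 := by
    intro h
    have h2 : h ^ 4 ∈ U.subgroupOf N := by
      rw [← hidx]
      exact Subgroup.pow_index_mem _ h
    have h3 : ((h : G) ^ 4) ∈ U := h2
    rw [← hC u hu h1, mem_centralizer_singleton_iff] at h3
    have h4 := hpow h 4
    rw [h3, mul_inv_cancel_right] at h4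
    have h5 : u ^ 1 = u ^ ((j h : ℕ) ^ 4) := by rw [pow_one]; exact h4
    rw [pow_eq_pow_iff_modEq, ho] at h5
    exact h5.symm
  have hcases : ∀ h : N, j h = 1 ∨ j h = 8 ∨ j h = 12 := by
    intro h
    have h2 := hj4 h
    have h3 : ∀ a : Fin 13, ((a : ℕ) ^ 4) % 13 = 1 → a = 1 ∨ a = 5 ∨ a = 8 ∨ a = 12 := by decide
    rcases h3 _ h2 with h4 | h4 | h4 | h4
    · exact Or.inl h4
    · exfalso
      apply hcon (h : G)
      rw [hj, h4]
      rfl
    · exact Or.inr (Or.inl h4)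
    · exact Or.inr (Or.inr h4)
  have hx0 : ∀ a b : N, (a : G) * u * (a : G)⁻¹ = (b : G) * u * (b : G)⁻¹ →
      (a : G)⁻¹ * (b : G) * u = u * ((a : G)⁻¹ * (b : G)) := by
    intro a b h4
    calc (a : G)⁻¹ * (b : G) * u = (a : G)⁻¹ * ((b : G) * u * (b : G)⁻¹) * (b : G) := by group
      _ = (a : G)⁻¹ * ((a : G) * u * (a : G)⁻¹) * (b : G) := by rw [h4]
      _ = _ := by group
  let Φ : (N ⧸ U.subgroupOf N) → {a : Fin 13 // a = 1 ∨ a = 8 ∨ a = 12} := fun x => ⟨j x.out, hcases _⟩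
  have hΦ : Function.Injective Φ := by
    intro x y hxy
    have h2 : j x.out = j y.out := congrArg Subtype.val hxy
    rw [← Quotient.out_eq x, ← Quotient.out_eq y]
    show (QuotientGroup.mk x.out : N ⧸ U.subgroupOf N) = QuotientGroup.mk y.out
    rw [QuotientGroup.eq, mem_subgroupOf]
    have h3 := hj x.out
    rw [h2, ← hj y.out] at h3
    have h4 : (x.out : G) * u * (x.out : G)⁻¹ = (y.out : G) * u * (y.out : G)⁻¹ := h3
    have h5 : (x.out : G)⁻¹ * (y.out : G) ∈ centralizer {u} := by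
      rw [mem_centralizer_singleton_iff]
      exact hx0 x.out y.out h4
    rw [hC u hu h1] at h5
    exact h5
  have h5 := Nat.card_le_card_of_injective Φ hΦ
  have h6 : Nat.card {a : Fin 13 // a = 1 ∨ a = 8 ∨ a = 12} = 3 := by
    rw [Nat.card_eq_fintype_card]
    decide
  have h7 : Nat.card (N ⧸ U.subgroupOf N) = 4 := hidx
  omega

theorem num_sz : Num (Cfsg.Sz F 1) := by
  have hF3 := hF3 hF
  have hc := card_sz hF
  have hfin : Finite (Cfsg.Sz F 1) := inferInstance
  have f13 : Fact (Nat.Prime 13) := ⟨by norm_num⟩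
  have f5 : Fact (Nat.Prime 5) := ⟨by norm_num⟩
  obtain ⟨U, hUc, hU, hUC, hUN⟩ := Cfsg.Agent.S0333.result le_rfl hF3 13 (by norm_num)
  obtain ⟨V, hVc, hV, hVC, hVN⟩ := Cfsg.Agent.S0333.result le_rfl hF3 5 (by norm_num)
  have n13 := card_prime (p := 13) hc (by norm_num) (by norm_num) hU hUN
  have n5 := card_prime (p := 5) hc (by norm_num) (by norm_num) hV hVN
  have hex : ∀ (P : Sylow 2 (Cfsg.Sz F 1)), ∀ g ∈ P, g ^ 4 = 1 := by
    intro P g hg
    have h1 := (Cfsg.Agent.S0330.result le_rfl hF3 P).2.1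
    have h3 := Monoid.pow_exponent_eq_one (G := (P : Subgroup (Cfsg.Sz F 1))) ⟨g, hg⟩
    rw [h1] at h3
    exact congrArg Subtype.val h3
  have n2 : Nat.card {g : Cfsg.Sz F 1 // g ^ 4 = 1} = 4096 := by
    rw [card_pow (p := 2) (e := 4) (N := 64) ?_ ?_ hex, card_syl hF]
    · intro P
      rw [(Cfsg.Agent.S0330.result le_rfl hF3 P).1]
      norm_num
    · intro g hg hg1
      have h2 : IsPGroup 2 (zpowers g) := by
        have h3 : orderOf g ∣ 2 ^ 2 := orderOf_dvd_of_pow_eq_one hg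
        obtain ⟨k, -, hk⟩ := (Nat.dvd_prime_pow Nat.prime_two).1 h3
        exact IsPGroup.of_card (n := k) (by rw [Nat.card_zpowers, hk])
      obtain ⟨P, hP⟩ := h2.exists_le_sylow
      refine ⟨P, hP (mem_zpowers g), fun P' hP' => Sylow.ext ?_⟩
      exact (Cfsg.Agent.S2238.result le_rfl hF3 g hg1).unique ⟨Or.inl ⟨P', rfl⟩, hP'⟩
        ⟨Or.inl ⟨P, rfl⟩, hP (mem_zpowers g)⟩
  -- elements of order 13
  have key : ∀ y : Cfsg.Sz F 1, y ^ 13 = 1 → y ≠ 1 → ∃ c : Cfsg.Sz F 1, c * y * c⁻¹ ∈ U := by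
    intro y hy h1
    have ho : orderOf y = 13 := orderOf_eq_prime hy h1
    obtain ⟨P, hP⟩ := (IsPGroup.of_card (n := 1) (by rw [Nat.card_zpowers, ho, pow_one]) :
      IsPGroup 13 (zpowers y)).exists_le_sylow
    obtain ⟨Q, hQ⟩ := (IsPGroup.of_card (n := 1) (by rw [hU, pow_one]) : IsPGroup 13 U).exists_le_sylow
    have hQU : (Q : Subgroup (Cfsg.Sz F 1)) = U := by
      symm
      apply Subgroup.eq_of_le_of_card_ge hQ
      rw [hU]
      exact (card_sylow (p := 13) hc (by norm_num) (by norm_num) Q).le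
    obtain ⟨c, hc⟩ := MulAction.exists_smul_eq (Cfsg.Sz F 1) P Q
    refine ⟨c, ?_⟩
    rw [← hQU, ← hc]
    have h3 : c * y * c⁻¹ ∈ (MulAut.conj c) • (P : Subgroup (Cfsg.Sz F 1)) := by
      rw [Subgroup.mem_pointwise_smul_iff_inv_smul_mem]
      have h4 : (MulAut.conj c)⁻¹ • (c * y * c⁻¹) = y := by
        rw [← map_inv]
        show c⁻¹ * (c * y * c⁻¹) * c⁻¹⁻¹ = y
        group
      rw [h4]
      exact hP (mem_zpowers y)
    exact h3
  refine ⟨hc, ?_, n2, n5, n13, ?_, ?_, ?_⟩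
  · intro g
    by_cases h1 : g = 1
    · exact Or.inl (by rw [h1, one_pow])
    obtain ⟨W, ⟨hW, hgW⟩, -⟩ := Cfsg.Agent.S2238.result le_rfl hF3 g h1
    rcases hW with ⟨P, rfl⟩ | ⟨-, hW⟩
    · exact Or.inl (hex P g hgW)
    · have h3 : (⟨g, hgW⟩ : W) ^ Nat.card W = 1 := pow_card_eq_one'
      have h4 : g ^ Nat.card W = 1 := congrArg Subtype.val h3
      rcases hW with hW | hW | hW
      · rw [hW] at h4
        exact Or.inr (Or.inr (Or.inl h4))
      · rw [hW] at h4
        exact Or.inr (Or.inr (Or.inr h4))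
      · rw [hW] at h4
        exact Or.inr (Or.inl h4)
  · have P : Sylow 2 (Cfsg.Sz F 1) := default
    by_contra hcon
    push Not at hcon
    have h1 := (Cfsg.Agent.S0330.result le_rfl hF3 P).2.1
    have h2 : Monoid.exponent (P : Subgroup (Cfsg.Sz F 1)) ∣ 2 := Monoid.exponent_dvd_of_forall_pow_eq_one fun g =>
      Subtype.ext (hcon g.1 (hex P g.1 g.2))
    rw [h1] at h2
    norm_num at h2
  · intro y hy
    by_cases h1 : y = 1
    · exact ⟨1, by rw [h1]; simp⟩
    obtain ⟨c, hc⟩ := key y hy h1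
    obtain ⟨h, hh⟩ := conj_core hU hUC hUN hc (fun h2 => h1 (by
      have := congrArg (fun z => c⁻¹ * z * c) h2
      simpa [mul_assoc] using this))
    refine ⟨c⁻¹ * h * c, ?_⟩
    have h3 : (c * y * c⁻¹) ^ 5 = c * y ^ 5 * c⁻¹ := conj_pow
    rw [h3] at hh
    calc c⁻¹ * h * c * y * (c⁻¹ * h * c)⁻¹ = c⁻¹ * (h * (c * y * c⁻¹) * h⁻¹) * c := by group
      _ = c⁻¹ * (c * y ^ 5 * c⁻¹) * c := by rw [hh]
      _ = y ^ 5 := by group
  · intro y hy h1
    obtain ⟨c, hc⟩ := key y hy h1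
    have h2 := hUC _ hc (fun h2 => h1 (by
      have := congrArg (fun z => c⁻¹ * z * c) h2
      simpa [mul_assoc] using this))
    rw [← hU, ← h2]
    refine Nat.card_congr ((MulAut.conj c).toEquiv.subtypeEquiv fun g => ?_)
    show g ∈ _ ↔ c * g * c⁻¹ ∈ _
    rw [mem_centralizer_singleton_iff, mem_centralizer_singleton_iff]
    constructor
    · intro h3
      calc c * g * c⁻¹ * (c * y * c⁻¹) = c * (g * y) * c⁻¹ := by group
        _ = c * (y * g) * c⁻¹ := by rw [h3]
        _ = _ := by group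
    · intro h3
      have h4 : c * (g * y) * c⁻¹ = c * (y * g) * c⁻¹ := by
        calc c * (g * y) * c⁻¹ = c * g * c⁻¹ * (c * y * c⁻¹) := by group
          _ = c * y * c⁻¹ * (c * g * c⁻¹) := h3
          _ = _ := by group
      exact mul_left_cancel (mul_right_cancel h4)

end sz

/-- **Task SZ1** -/
theorem numSz : NumSz.{u} := by
  intro F _ _ hF
  obtain ⟨e⟩ := Cfsg.Agent.OddCyclic.ClaimC.SzIso.iso (F := F) (m := 1) le_rfl (hF3 hF)
  exact Num_congr e (num_sz hF)

end Cfsg.Agent.H887.Sz
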