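import Cfsg.Agent.H540.E8C.Sz.Iface
import Cfsg.Agent.H887.Sz.NumSz
import Cfsg.Agent.H887.Sz.Grp

/-!
# The row `Sz(8)` of S5919 (helper887, task SZ4)
-/

set_option autoImplicit false
set_option maxRecDepth 100000

namespace Cfsg.Agent.H887.Sz

open Subgroup Module
open Cfsg Cfsg.Lie Cfsg.Agent.H540.E8C Cfsg.Agent.H540.E8C.End
open Cfsg.Agent.H540.E8C.Sz

universe u

section lin

variable {K V : Type*} [Field K] [AddCommGroup V] [Module K V] [FiniteDimensional K V]

theorem finrank_le_map (A : V →ₗ[K] V) (X : Submodule K V) :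
    finrank K X ≤ finrank K (X.map A) + finrank K ↥(X ⊓ LinearMap.ker A) := by
  have h1 := LinearMap.finrank_range_add_finrank_ker (A.domRestrict X)
  rw [LinearMap.range_domRestrict] at h1
  have h2 : finrank K (LinearMap.ker (A.domRestrict X)) ≤ finrank K ↥(X ⊓ LinearMap.ker A) := by
    refine LinearMap.finrank_le_finrank_of_injective (f := ((X.subtype.comp (LinearMap.ker (A.domRestrict X)).subtype).codRestrict
      (X ⊓ LinearMap.ker A) fun v => ⟨v.1.2, v.2⟩)) ?_
    intro a b hab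
    exact Subtype.ext (Subtype.ext (congrArg (fun z : ↥(X ⊓ LinearMap.ker A) => (z : V)) hab))
  omega

/-- a unipotent operator of order three -/
theorem finrank_le_three (A : V →ₗ[K] V) {W F : Submodule K V} (hW : ∀ v ∈ W, A v ∈ W)
    (h3 : ∀ v ∈ W, A (A (A v)) = 0) (hF : ∀ v ∈ W, A v = 0 → v ∈ F) : finrank K W ≤ 3 * finrank K F := by
  have key : ∀ X : Submodule K V, X ≤ W → finrank K X ≤ finrank K (X.map A) + finrank K F := by
    intro X hX
    refine (finrank_le_map A X).trans (Nat.add_le_add_left (Submodule.finrank_mono ?_) _)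
    rintro v ⟨h1, h2⟩
    exact hF v (hX h1) h2
  have h1 : W.map A ≤ W := by
    rintro _ ⟨v, hv, rfl⟩
    exact hW v hv
  have h2 : (W.map A).map A ≤ W := by
    rintro _ ⟨v, hv, rfl⟩
    exact hW v (h1 hv)
  have h4 : ((W.map A).map A).map A = ⊥ := by
    rw [eq_bot_iff]
    rintro _ ⟨_, ⟨_, ⟨v, hv, rfl⟩, rfl⟩, rfl⟩
    exact h3 v hv
  have e1 := key W le_rfl
  have e2 := key _ h1
  have e3 := key _ h2
  rw [h4, finrank_bot] at e3
  omega

theorem exists_finset {V : Type*} [AddCommGroup V] [Module (ZMod 3) V] [Finite V] (X : Submodule (ZMod 3) V)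
    (h : 6 ≤ finrank (ZMod 3) X) : ∃ B : Finset V, (∀ b ∈ B, b ∈ X ∧ b ≠ 0) ∧ 728 ≤ B.card := by
  classical
  have := Fintype.ofFinite V
  refine ⟨(Finset.univ.filter fun v : V => v ∈ X).erase 0, fun b hb => ?_, ?_⟩
  · rw [Finset.mem_erase, Finset.mem_filter] at hb
    exact ⟨hb.2.2, hb.1⟩
  · have h5 : (Finset.univ.filter fun v : V => v ∈ X).card = 3 ^ finrank (ZMod 3) X := by
      have h6 : Nat.card X = 3 ^ finrank (ZMod 3) X := by
        rw [Module.natCard_eq_pow_finrank (K := ZMod 3), Nat.card_zmod]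
      rw [← h6, Nat.card_eq_fintype_card, Fintype.card_subtype]
    have h8 : 3 ^ 6 ≤ 3 ^ finrank (ZMod 3) X := Nat.pow_le_pow_right (by norm_num) h
    rw [Finset.card_erase_of_mem (by
      rw [Finset.mem_filter]
      exact ⟨Finset.mem_univ _, Submodule.zero_mem _⟩), h5]
    omega

end lin

theorem exists_lin {n K : Type*} [Fintype n] [CommRing K] (M : Matrix n n K) :
    ∃ A : (n → K) →ₗ[K] (n → K), ∀ v, A v = M.mulVec v - v :=
  ⟨Matrix.mulVecLin M - LinearMap.id, fun _ => rfl⟩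

theorem pow3_mem {G : Type*} [Group G] {N : Subgroup G} [N.Normal] (hN : N.index ∣ 3) (g : G) : g ^ 3 ∈ N := by
  obtain ⟨k, hk⟩ := hN
  rw [hk, pow_mul]
  exact pow_mem (Subgroup.pow_index_mem N _) k

/-- the centraliser in an extension of index at most three -/
theorem card_cent {G : Type*} [Group G] [Finite G] {N : Subgroup G} [N.Normal] (hN : N.index ∣ 3) {y : N}
    (hy : Nat.card ↥(centralizer ({y} : Set N)) = 13) : Nat.card ↥(centralizer ({(y : G)} : Set G)) ≤ 39 := by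
  set C := centralizer ({(y : G)} : Set G) with hC
  have h1 := Subgroup.card_mul_index (N.subgroupOf C)
  have h2 : (N.subgroupOf C).index ∣ 3 := (Subgroup.relIndex_dvd_index_of_normal N C).trans hN
  have h3 : Nat.card (N.subgroupOf C) = 13 := by
    rw [← hy]
    refine Nat.card_congr ⟨fun g => ⟨⟨g.1.1, g.2⟩, ?_⟩, fun g => ⟨⟨g.1.1, ?_⟩, g.1.2⟩, fun _ => rfl, fun _ => rfl⟩
    · rw [mem_centralizer_singleton_iff]
      exact Subtype.ext (mem_centralizer_singleton_iff.1 g.1.2)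
    · rw [hC, mem_centralizer_singleton_iff]
      exact congrArg Subtype.val (mem_centralizer_singleton_iff.1 g.2)
  have h4 := Nat.le_of_dvd (by norm_num) h2
  rw [← h1, h3]
  omega

theorem card_cent_inf {G : Type*} [Group G] (H : Subgroup G) (y : ↥H) :
    Nat.card ↥(centralizer ({(y : G)} : Set G) ⊓ H) = Nat.card ↥(centralizer ({y} : Set ↥H)) := by
  refine Nat.card_congr ⟨fun g => ⟨⟨g.1, g.2.2⟩, ?_⟩, fun g => ⟨g.1.1, ?_, g.1.2⟩, fun _ => rfl, fun _ => rfl⟩
  · rw [mem_centralizer_singleton_iff]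
    exact Subtype.ext (mem_centralizer_singleton_iff.1 g.2.1)
  · show (g.1 : G) ∈ centralizer ({(y : G)} : Set G)
    rw [mem_centralizer_singleton_iff]
    exact congrArg Subtype.val (mem_centralizer_singleton_iff.1 g.2)

theorem exists_lin_ac (g : E) : ∃ A : LL →ₗ[ZMod 3] LL, ∀ v, A v = ac g v - v :=
  exists_lin ((g : GL chevE8.Idx (ZMod 3)) : Matrix chevE8.Idx chevE8.Idx (ZMod 3))

set_option maxHeartbeats 1600000 in
/-- **Task SZ4** -/
theorem row (h1 : NumSz.{u}) (h2 : Dims) (h3 : Grp.{u}) : Row.{u} := by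
  intro F₈ _ _ hF H he hmax
  have hcardH := h3 F₈ hF ↥H he
  obtain ⟨e⟩ := he
  obtain ⟨N, hNdef⟩ : ∃ N, N = Cfsg.generalizedFittingSubgroup ↥H := ⟨_, rfl⟩
  rw [← hNdef] at e
  have hNn : N.Normal := by rw [hNdef]; exact Cfsg.Agent.Lib.GenFitting.genFitting_normal
  have hnum : Num ↥N := Num_congr e.symm (h1 F₈ hF)
  let F : ↥N →* E := H.subtype.comp N.subtype
  have hFinj : Function.Injective F := fun a b hab => Subtype.ext (Subtype.ext hab)
  have hidx : N.index ∣ 3 := by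
    have h4 := Subgroup.card_mul_index N
    rw [hnum.card] at h4
    rcases hcardH with h5 | h5
    · rw [h5] at h4
      have : N.index = 1 := by omega
      rw [this]
      norm_num
    · rw [h5] at h4
      have : N.index = 3 := by omega
      rw [this]
  have hne : H ≠ ⊥ := by
    rintro rfl
    rw [Subgroup.card_bot] at hcardH
    omega
  have f13 : Fact (Nat.Prime 13) := ⟨by norm_num⟩
  obtain ⟨y, hyo⟩ := exists_prime_orderOf_dvd_card' (G := N) 13 (by rw [hnum.card]; norm_num)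
  have hy : y ^ 13 = 1 := by rw [← hyo]; exact pow_orderOf_eq_one y
  have hy1 : y ≠ 1 := by
    rintro rfl
    rw [orderOf_one] at hyo
    norm_num at hyo
  have hS : ∀ g : E, g ∈ F.range ↔ ∃ h : g ∈ H, (⟨g, h⟩ : ↥H) ∈ N := by
    intro g
    constructor
    · rintro ⟨x, rfl⟩
      exact ⟨x.1.2, x.2⟩
    · rintro ⟨h, hx⟩
      exact ⟨⟨⟨g, h⟩, hx⟩, rfl⟩
  have hnorm : H ≤ normalizer (F.range : Set E) := by
    have key : ∀ h ∈ H, ∀ g ∈ F.range, h * g * h⁻¹ ∈ F.range := by
      rintro h hh _ ⟨x, rfl⟩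
      have h5 := hNn.conj_mem x.1 x.2 ⟨h, hh⟩
      exact ⟨⟨_, h5⟩, rfl⟩
    intro h hh
    rw [mem_normalizer_iff]
    intro g
    refine ⟨key h hh g, fun hg => ?_⟩
    have h5 := key h⁻¹ (H.inv_mem hh) _ hg
    have h6 : h⁻¹ * (h * g * h⁻¹) * h⁻¹⁻¹ = g := by group
    rwa [h6] at h5
  have hSne : F.range ≠ ⊥ := by
    intro h5
    have h6 : F y ∈ F.range := ⟨y, rfl⟩
    rw [h5, mem_bot] at h6
    exact hy1 (hFinj (h6.trans (map_one F).symm))
  -- elements of `H` of order 13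
  have hin : ∀ x ∈ H, x ^ 13 = 1 → x ∈ F.range := by
    intro x hx hx13
    rw [hS]
    refine ⟨hx, ?_⟩
    have h5 : (⟨x, hx⟩ : ↥H) ^ 13 = 1 := Subtype.ext hx13
    have h6 : (⟨x, hx⟩ : ↥H) ^ 3 ∈ N := pow3_mem hidx _
    have h7 : (⟨x, hx⟩ : ↥H) = ((⟨x, hx⟩ : ↥H) ^ 3) ^ 9 * (((⟨x, hx⟩ : ↥H) ^ 13) ^ 2)⁻¹ := by group
    rw [h7, h5, one_pow, inv_one, mul_one]
    exact pow_mem h6 9
  rcases h2 ↥N hnum F hFinj y hy hy1 with ⟨⟨x', hx'13, hcomm, hnot, hfix⟩, hd⟩ | ⟨hK, hd, hv⟩
  · have hvS : fixV F.range ≠ ⊥ := by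
      intro h5
      rw [h5, finrank_bot] at hd
      omega
    have hx' : x' ∈ H := mem_of_partner hmax hSne hnorm hvS (x := F y) ⟨y, rfl⟩ hfix
    obtain ⟨x, hx⟩ := hin x' hx' hx'13
    apply hnot
    have h5 : x ∈ centralizer ({y} : Set ↥N) := by
      rw [mem_centralizer_singleton_iff]
      apply hFinj
      rw [map_mul, map_mul, hx]
      exact hcomm.symm
    have h6 : centralizer ({y} : Set ↥N) = zpowers y := by
      symm
      apply Subgroup.eq_of_le_of_card_ge
      · rw [zpowers_le, mem_centralizer_singleton_iff]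
      · rw [hnum.cent y hy hy1, Nat.card_zpowers, hyo]
    rw [h6] at h5
    rw [← hx]
    obtain ⟨k, rfl⟩ := mem_zpowers_iff.1 h5
    rw [map_zpow]
    exact zpow_mem (mem_zpowers _) k
  · -- a generator of `H / S`
    have hcyc : ∃ δ : ↥H, ∀ h : ↥H, ∃ n : ℤ, ∃ s ∈ N, h = δ ^ n * s := by
      have h5 : IsCyclic (↥H ⧸ N) := by
        have h6 : Nat.card (↥H ⧸ N) = N.index := rfl
        rcases (Nat.dvd_prime Nat.prime_three).1 hidx with h7 | h7
        · have : Subsingleton (↥H ⧸ N) := (Nat.card_eq_one_iff_unique.1 (h6.trans h7)).1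
          infer_instance
        · have : Fact (Nat.Prime 3) := ⟨Nat.prime_three⟩
          exact isCyclic_of_prime_card (p := 3) (h6.trans h7)
      obtain ⟨g, hg⟩ := h5.exists_generator
      obtain ⟨δ, rfl⟩ := QuotientGroup.mk_surjective g
      refine ⟨δ, fun h => ?_⟩
      obtain ⟨n, hn⟩ := mem_zpowers_iff.1 (hg (QuotientGroup.mk h))
      rw [← QuotientGroup.mk_zpow, QuotientGroup.eq] at hn
      exact ⟨n, _, hn, by group⟩
    obtain ⟨δ, hδ⟩ := hcyc
    have hδ3 : δ ^ 3 ∈ N := pow3_mem hidx _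
    have hinv : ∀ h ∈ H, ∀ v ∈ fixV F.range, ac h v ∈ fixV F.range := by
      intro h hh v hv g hg
      have h5 : h⁻¹ * g * h ∈ F.range := by
        have := (mem_normalizer_iff.1 (hnorm (H.inv_mem hh)) g).1 hg
        rwa [inv_inv] at this
      have h6 := hv _ h5
      have h7 : g * h = h * (h⁻¹ * g * h) := by group
      rw [← ac_mul, h7, ac_mul, h6]
    obtain ⟨A, hA⟩ : ∃ A : LL →ₗ[ZMod 3] LL, ∀ v, A v = ac (δ : E) v - v := exists_lin_ac (δ : E)
    have hfixH : ∀ v ∈ fixV F.range, A v = 0 → v ∈ fixV H := by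
      intro v hv hAv h hh
      rw [hA] at hAv
      have h5 : ac (δ : E) v = v := sub_eq_zero.1 hAv
      obtain ⟨n, s, hs, e1⟩ := hδ ⟨h, hh⟩
      have h6 : h = (δ : E) ^ n * (s : E) := congrArg Subtype.val e1
      have h7 : ac (s : E) v = v := hv _ ⟨⟨s, hs⟩, rfl⟩
      rw [h6, ac_mul, h7]
      have h8 : (δ : E) ^ n ∈ stab v := zpow_mem (show (δ : E) ∈ stab v from h5) n
      exact h8
    have hdim := finrank_le_three A (W := fixV F.range) (F := fixV H)
      (fun v hv => by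
        rw [hA]
        exact Submodule.sub_mem _ (hinv _ δ.2 v hv) hv)
      (fun v hv => by
        have h5 : ac ((δ : E) ^ 3) v = v := hv _ ⟨⟨_, hδ3⟩, rfl⟩
        have h6 : ac (δ : E) (ac (δ : E) (ac (δ : E) v)) = v := by
          rw [← ac_mul, ← ac_mul]
          rw [pow_three] at h5
          rw [mul_assoc]
          exact h5
        have hsub : ∀ a b : LL, ac (δ : E) (a - b) = ac (δ : E) a - ac (δ : E) b := fun a b => by
          rw [sub_eq_add_neg, ac_add, ac_neg, ← sub_eq_add_neg]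
        rw [hA, hA, hA, hsub, hsub, hsub, h6]
        funext i
        simp only [Pi.sub_apply, Pi.zero_apply]
        have h3 : ∀ a b c : ZMod 3, a - b - (b - c) - (b - c - (c - a)) = 0 := by decide
        exact h3 _ _ _)
      hfixH
    have hd6 : 6 ≤ finrank (ZMod 3) (fixV H) := by omega
    obtain ⟨B, hB, hBc⟩ := exists_finset (fixV H) hd6
    have hyH : F y ∈ H := y.1.2
    have hC : Nat.card ↥(centralizer ({F y} : Set E) ⊓ H) ≤ 39 := by
      exact (le_of_eq (card_cent_inf H (y : ↥H))).trans (card_cent hidx (hnum.cent y hy hy1))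
    have hcount := count hmax hne (y := F y) (B := B)
      (fun b hb => ⟨(hB b hb).2, (hB b hb).1 _ hyH, fun g hg => Or.inl ((hB b hb).1 g hg)⟩) hC
    rw [hv] at hcount
    have h9 : 728 * 18743628421389393110651003031810837312 ≤ 39 * 3 ^ 80 :=
      (Nat.mul_le_mul hBc hK).trans hcount
    norm_num at h9

end Cfsg.Agent.H887.Sz
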